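import Groth.Agent.ReductiveTools.OverClosed
import Groth.Agent.DSPtsLib.Basic
import Groth.Agent.GrpSchLib.KernelGrp
import Groth.Agent.GrpSchLib.HomUnitLocus
import Groth.Agent.RedRank.TorusDim
import Groth.Agent.S17094

/-!
# Reductive groups have no additive functions
-/

universe u

open CategoryTheory CategoryTheory.Limits MonoidalCategory CartesianMonoidalCategory MonObj AlgebraicGeometry

set_option backward.isDefEq.respectTransparency false
set_option backward.isDefEq.respectTransparency.types false
set_option linter.style.haveILetI false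
set_option synthInstance.maxHeartbeats 80000
set_option autoImplicit false

namespace Groth.Agent.ReductiveTools

open Groth.Agent.GrpSchLib

theorem hom_Ga_eq_one {k : Type u} [Field k] (G : Over (Spec (CommRingCat.of k))) [GrpObj G]
    (hG : Red.IsReductive G) (φ : G ⟶ Red.Ga (Spec (CommRingCat.of k))) [IsMonHom φ] : φ = 1 := by
  let s : ↥(Spec (CommRingCat.of k)) := IsLocalRing.closedPoint k
  let σ := Red.geomPt s
  have hK : Red.IsReductive (Red.geomFibre s G) := isReductive_of_over (hG.2.2 s)
  haveI : IsAffine Red.GaZ.{u}.left :=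
    inferInstanceAs (IsAffine (Spec (CommRingCat.of (SymmetricAlgebra (ULift.{u} ℤ) (ULift.{u} ℤ)))))
  haveI : IsAffineHom Red.GaZ.{u}.hom := isAffineHom_of_isAffine _
  haveI : IsAffineHom (Red.Ga (Spec (CommRingCat.of k))).hom :=
    MorphismProperty.pullback_snd (P := @IsAffineHom) Red.GaZ.{u}.hom _ ‹IsAffineHom Red.GaZ.{u}.hom›
  haveI : IsSeparated (Red.bc σ (Red.Ga (Spec (CommRingCat.of k)))).hom :=
    inferInstanceAs (IsSeparated (pullback.snd (Red.Ga (Spec (CommRingCat.of k))).hom σ))
  let φK := (Over.pullback σ).map φ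
  obtain ⟨N, _, i, hi, hcl, -, hker⟩ := exists_kernel φK
  haveI := hi; haveI := hcl
  haveI : IsIso i := Groth.Agent.S17094.result _ (Red.geomFibre s G) hK N i hcl fun T _ iT hT => by
    haveI := hT.1
    obtain ⟨r, ⟨e⟩, -⟩ := RedRank.exists_dim hT.2.2.1
    let a : Red.DS _ (Fin r → ℤ) ⟶ T := e.inv.hom.hom
    let b : T ⟶ Red.DS _ (Fin r → ℤ) := e.hom.hom.hom
    haveI : IsMonHom a := e.inv.hom.isMonHom_hom
    have hba : b ≫ a = 𝟙 T := congrArg (fun h => h.hom.hom) e.hom_inv_id
    have hw : DSPtsLib.theta σ (a ≫ iT) ≫ φ = 1 := by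
      refine DSPtsLib.eq_one_of_additive _ fun Y x y => ?_
      rw [← Category.assoc, ← DSPtsLib.theta_comp, MonObj.mul_comp x y (a ≫ iT), DSPtsLib.theta_mul]
      refine (MonObj.mul_comp _ _ φ).trans ?_
      simp only [DSPtsLib.theta_comp, Category.assoc]
    have h1 : iT ≫ φK = 1 := by
      have h2 : (a ≫ iT) ≫ φK = 1 := (DSPtsLib.theta_bijective (g := σ)).1 (by
        rw [HomUnitLocus.theta_comp_map, hw, HomUnitLocus.theta_one])
      rw [← Category.id_comp iT, ← hba, Category.assoc, Category.assoc, ← Category.assoc a, h2, MonObj.comp_one]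
    exact ⟨hker.lift iT (toUnit T) h1, hker.lift_fst _ _ _⟩
  have hφK : φK = 1 := by
    rw [← cancel_epi i, MonObj.comp_one]
    exact hker.w
  have hθ : DSPtsLib.theta σ (𝟙 (Red.geomFibre s G)) ≫ φ = DSPtsLib.theta σ (𝟙 (Red.geomFibre s G)) ≫ 1 := by
    rw [← HomUnitLocus.theta_comp_map, Category.id_comp, MonObj.comp_one]
    show DSPtsLib.theta σ φK = 1
    rw [hφK, HomUnitLocus.theta_one]
  have h := congrArg (fun m => m.left) hθ
  simp only [Over.comp_left, DSPtsLib.theta_left, Over.id_left, Category.id_comp] at h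
  haveI : Flat σ := by
    haveI : Flat (Spec.map (CommRingCat.ofHom (algebraMap ((Spec (CommRingCat.of k)).residueField s)
        (AlgebraicClosure ((Spec (CommRingCat.of k)).residueField s))))) := by
      rw [HasRingHomProperty.Spec_iff (P := @Flat)]
      exact RingHom.flat_algebraMap_iff.2 inferInstance
    haveI : Flat ((Spec (CommRingCat.of k)).fromSpecResidueField s) := by
      rw [← Spec.map_preimage ((Spec (CommRingCat.of k)).fromSpecResidueField s),
        HasRingHomProperty.Spec_iff (P := @Flat)]
      exact RingHom.Flat.of_isField (Field.toIsField k) _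
    infer_instance
  haveI : Surjective σ := ⟨fun z => ⟨IsLocalRing.closedPoint _, Subsingleton.elim (α := ↥(Spec (CommRingCat.of k))) _ _⟩⟩
  haveI : QuasiCompact σ := inferInstance
  haveI : Flat (pullback.fst G.hom σ) := MorphismProperty.pullback_fst (P := @Flat) _ _ inferInstance
  haveI : Surjective (pullback.fst G.hom σ) := MorphismProperty.pullback_fst (P := @Surjective) _ _ inferInstance
  haveI : QuasiCompact (pullback.fst G.hom σ) := MorphismProperty.pullback_fst (P := @QuasiCompact) _ _ inferInstance
  haveI : EffectiveEpi (pullback.fst G.hom σ) := (FpqcDescLib.isCovering_of_quasiCompact _).effectiveEpi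
  exact Over.OverMorphism.ext ((cancel_epi (pullback.fst G.hom σ)).mp h)

end Groth.Agent.ReductiveTools
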