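import Groth.Agent.SolvGrp.Fibre
import Groth.Agent.SolvGrp.OverClosed
import Groth.Agent.GrpLimLib.Basic
import Groth.Agent.TorsionCent.Global

/-!
# Reductive groups over an algebraically closed field
-/

universe u

open CategoryTheory CategoryTheory.Limits MonoidalCategory CartesianMonoidalCategory MonObj AlgebraicGeometry

set_option backward.isDefEq.respectTransparency false
set_option backward.isDefEq.respectTransparency.types false
set_option linter.style.haveILetI false
set_option synthInstance.maxHeartbeats 80000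
set_option autoImplicit false

namespace Groth.Agent.ReductiveTools

open Groth.Agent.GrpSchLib GrpLimLib

/-- A homomorphism followed by an isomorphism of groups is still normal. -/
theorem isNormalHom_comp_iso {S : Scheme.{u}} {U G G' : Over S} [GrpObj U] [GrpObj G] [GrpObj G'] (i : U ⟶ G)
    (e : G ≅ G') [IsMonHom e.hom] (hn : AlgGrp.IsNormalHom i) : AlgGrp.IsNormalHom (i ≫ e.hom) := by
  haveI := TorsionCent.isMonHom_inv_of e
  intro X g x
  obtain ⟨y, hy⟩ := hn X (g ≫ e.inv) x
  refine ⟨y, ?_⟩
  rw [← Category.assoc y, ← hy]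
  simp only [MonObj.mul_comp, GrpObj.inv_comp, Category.assoc, Iso.inv_hom_id, Category.comp_id]

/-- Over an algebraically closed field the fibrewise definition agrees with the absolute one. -/
theorem isReductive_of_over {k : Type u} [Field k] [IsAlgClosed k] {H : Over (Spec (CommRingCat.of k))} [GrpObj H]
    (hH : Red.IsReductiveOver k H) : Red.IsReductive H := by
  obtain ⟨ha, hs, hc, hU⟩ := hH
  haveI := ha; haveI := hs; haveI := hc
  haveI : IsAffineHom H.hom := isAffineHom_of_isAffine H.hom
  refine ⟨inferInstance, hs, fun s => ?_⟩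
  haveI := SolvGrp.isIso_geomPt s
  let φ := Red.geomPt s
  haveI : IsAffineHom (pullback.snd H.hom φ) := MorphismProperty.pullback_snd (P := @IsAffineHom) _ _ inferInstance
  refine ⟨isAffine_of_isAffineHom (pullback.snd H.hom φ), inferInstanceAs (Smooth (pullback.snd H.hom φ)),
    (Scheme.Hom.homeomorph (pullback.fst H.hom φ)).symm.surjective.connectedSpace
      (Scheme.Hom.homeomorph (pullback.fst H.hom φ)).symm.continuous, fun U _ i _ hci hsU hcU hn hnt => ?_⟩
  haveI := hci; haveI := hsU; haveI := hcU
  obtain ⟨e₁⟩ := MultTypeBC.bc_bc (inv φ) φ H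
  obtain ⟨e₂⟩ := MultTypeBC.bc_congr (IsIso.inv_hom_id φ) H
  let e₃ : Grp.mk (Red.bc (𝟙 (Spec (CommRingCat.of k))) H) ≅ Grp.mk H :=
    ((Functor.mapGrpNatIso Over.pullbackId) ≪≫ Functor.mapGrpIdIso).app (Grp.mk H)
  let e := e₁ ≪≫ e₂ ≪≫ e₃
  let E : Red.bc (inv φ) (Red.bc φ H) ≅ H := (Grp.forget _).mapIso e
  haveI : IsMonHom E.hom := e.hom.hom.isMonHom_hom
  haveI : IsIso E.hom.left := ((Over.forget _).mapIso E).isIso_hom
  haveI : IsIso (inv φ) := inferInstance
  let P := Over.pullback (inv φ)
  have hcl : IsClosedImmersion (P.map i).left :=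
    MorphismProperty.of_isPullback (P := @IsClosedImmersion) (MaxTorusBC.isPullback_map (inv φ) i) hci
  haveI := hcl
  haveI : IsMonHom (P.map i ≫ E.hom) := inferInstance
  have hconn : ConnectedSpace (Red.bc (inv φ) U).left :=
    (Scheme.Hom.homeomorph (pullback.fst U.hom (inv φ))).symm.surjective.connectedSpace
      (Scheme.Hom.homeomorph (pullback.fst U.hom (inv φ))).symm.continuous
  have h := hU (Red.bc (inv φ) U) (P.map i ≫ E.hom)
    (inferInstanceAs (IsClosedImmersion ((P.map i).left ≫ E.hom.left)))
    (inferInstanceAs (Smooth (pullback.snd U.hom (inv φ)))) hconn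
    (isNormalHom_comp_iso _ E (SolvGrp.isNormalHom_bc _ i hn)) (SolvGrp.hasNoSubtorus_bc (inv φ) hnt)
  haveI : IsIso (pullback.snd U.hom (inv φ)) := h
  show IsIso U.hom
  haveI : IsIso (pullback.fst U.hom (inv φ) ≫ U.hom) := by rw [pullback.condition]; infer_instance
  exact IsIso.of_isIso_comp_left (pullback.fst U.hom (inv φ)) U.hom

end Groth.Agent.ReductiveTools
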